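import Cfsg.Agent.H635.SB.Fi23.Chk

/-!
# `Fi₂₃`: the checks for the degrees up to 305371 (helper635)
-/

set_option autoImplicit false
set_option maxRecDepth 100000

namespace Cfsg.Agent.H635.SB.Fi23

def tB0 : List (ℕ × ℕ × ℕ × ℕ × ℕ × ℕ × ℕ) :=
  [(26520, 520, 322920, 360, 20, 1260, 37), (30888, 1144, 1341912, 1112, 11, 1269, 21), (32130, 70, 4830, 1150, 180,
    1100, 324), (32384, 1408, 1938816, 896, 10, 1270, 19), (32844, 28, 756, 436, 460, 820, 825), (35190, 10, 90,
    650, 1378, 1182, 2468), (35904, 704, 437184, 1216, 20, 1260, 37), (36432, 176, 26928, 688, 82, 1198, 148),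
    (37179, 27, 621, 1221, 539, 741, 966), (41769, 91, 6279, 471, 180, 1100, 323), (43010, 110, 8910, 510, 154,
    1126, 276), (43470, 70, 3570, 50, 244, 1036, 437), (43758, 286, 59202, 1042, 60, 1220, 109), (45747, 13, 117,
    333, 1378, 1182, 2464)]

theorem tB0_ok : tB0.all chkR = true := by decide +kernel

def tB1 : List (ℕ × ℕ × ℕ × ℕ × ℕ × ℕ × ℕ) :=
  [(118404, 572, 87516, 636, 82, 1198, 147), (119680, 7040, 13115520, 640, 7, 1273, 14), (121992, 104, 2808, 888,
    460, 820, 820), (123200, 123200, 3901867200, 960, 1, 1279, 3), (130560, 2560, 1589760, 1280, 20, 1260, 37),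
    (136136, 8008, 14918904, 824, 7, 1273, 14), (136850, 350, 28350, 110, 154, 1126, 275), (137632, 352, 28512, 608,
    154, 1126, 275), (148512, 2912, 1808352, 1248, 20, 1260, 37), (154836, 44, 396, 44, 1378, 1182, 2455), (155584,
    9152, 17050176, 576, 7, 1273, 14), (162162, 2002, 782782, 398, 32, 1248, 58), (162656, 416, 33696, 1184, 154,
    1126, 275), (167739, 143, 3861, 1221, 460, 820, 820), (169728, 3328, 2066688, 512, 20, 1260, 37), (170016, 2464,
    1130976, 224, 28, 1252, 51), (172040, 440, 35640, 760, 154, 1126, 275), (179400, 2600, 1193400, 1080, 28, 1252,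
    51), (180642, 154, 4158, 1118, 460, 820, 820), (187680, 160, 4320, 480, 460, 820, 820)]

theorem tB1_ok : tB1.all chkR = true := by decide +kernel

def tB2 : List (ℕ × ℕ × ℕ × ℕ × ℕ × ℕ × ℕ) :=
  [(73899, 7, 21, 341, 4132, 988, 7372)]

theorem tB2_ok : tB2.all chkR = true := by decide +kernel

def tB3 : List (ℕ × ℕ × ℕ × ℕ × ℕ × ℕ × ℕ) :=
  [(158355, 5, 5, 365, 12394, 406, 22070)]

theorem tB3_ok : tB3.all chkR = true := by decide +kernel

end Cfsg.Agent.H635.SB.Fi23
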