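import Cfsg.Agent.H635.SB.Fi23.Chk

/-!
# `Fi₂₃`: the checks for the degrees up to 305371 (helper635)
-/

set_option autoImplicit false
set_option maxRecDepth 100000

namespace Cfsg.Agent.H635.SB.Fi23

def tC0 : List (ℕ × ℕ × ℕ × ℕ × ℕ × ℕ × ℕ) :=
  [(49335, 715, 328185, 585, 28, 1252, 51), (50048, 128, 10368, 1152, 154, 1126, 276), (50830, 130, 10530, 370, 154,
    1126, 276), (51612, 44, 1188, 868, 460, 820, 823), (55200, 800, 367200, 1120, 28, 1252, 51), (57408, 832,
    381888, 192, 28, 1252, 51), (58650, 50, 1350, 230, 460, 820, 822), (60214, 154, 12474, 1226, 154, 1126, 276),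
    (60996, 52, 1404, 444, 460, 820, 822), (67320, 440, 91080, 520, 60, 1220, 108), (68068, 4004, 7459452, 1052, 7,
    1273, 14), (68816, 176, 14256, 304, 154, 1126, 276), (68850, 50, 1150, 270, 539, 741, 963), (70380, 20, 180, 20,
    1378, 1182, 2459)]

theorem tC0_ok : tC0.all chkR = true := by decide +kernel

def tC1 : List (ℕ × ℕ × ℕ × ℕ × ℕ × ℕ × ℕ) :=
  [(191268, 308, 15708, 732, 244, 1036, 435), (193545, 55, 495, 1015, 1378, 1182, 2454), (196350, 3850, 2390850,
    770, 20, 1260, 37), (205632, 448, 30912, 448, 180, 1100, 322), (205920, 22880, 80514720, 160, 4, 1276, 8),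
    (212992, 212992, 6745669632, 768, 1, 1279, 3), (213486, 182, 4914, 274, 460, 820, 819), (223652, 572, 46332,
    348, 154, 1126, 275), (224400, 4400, 2732400, 880, 20, 1260, 37), (228735, 65, 585, 385, 1378, 1182, 2453),
    (230230, 10010, 13783770, 170, 10, 1270, 19), (242352, 176, 4048, 848, 539, 741, 961)]

theorem tC1_ok : tC1.all chkR = true := by decide +kernel

def tC2 : List (ℕ × ℕ × ℕ × ℕ × ℕ × ℕ × ℕ) :=
  [(116127, 11, 33, 353, 4132, 988, 7363)]

theorem tC2_ok : tC2.all chkR = true := by decide +kernel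

def tC3 : List (ℕ × ℕ × ℕ × ℕ × ℕ × ℕ × ℕ) :=
  [(263925, 25, 75, 1035, 4132, 988, 7354)]

theorem tC3_ok : tC3.all chkR = true := by decide +kernel

end Cfsg.Agent.H635.SB.Fi23
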