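import Cfsg.Agent.H635.SB.Fi23.CertA
import Cfsg.Agent.H635.SB.Fi23.CertB
import Cfsg.Agent.H635.SB.Fi23.CertC
import Cfsg.Agent.H856.F23.Deg

/-!
# `Fi₂₃`: the check for all degrees up to 305371 (helper635)
-/

set_option autoImplicit false
set_option maxRecDepth 100000

namespace Cfsg.Agent.H635.SB.Fi23

def tbl : List (ℕ × ℕ × ℕ × ℕ × ℕ × ℕ × ℕ) :=
  tA0 ++ (tA1 ++ (tA2 ++ (tA3 ++ (tA4 ++ (tB0 ++ (tB1 ++ (tB2 ++ (tB3 ++ (tC0 ++ (tC1 ++ (tC2 ++ (tC3))))))))))))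

theorem tbl_ok : tbl.all chkR = true := by
  unfold tbl
  simp only [List.all_append, tA0_ok, tA1_ok, tA2_ok, tA3_ok, tA4_ok, tB0_ok, tB1_ok, tB2_ok, tB3_ok, tC0_ok, tC1_ok, tC2_ok, tC3_ok, Bool.and_self]

def tst (n : ℕ) : Bool :=
  bif Nat.beq n 1 || Nat.ble 305372 n then true else bif resid n then tbl.elem (rowOf n) else true

theorem chkAll : Cfsg.Agent.H653.Sieve.allDiv (305372 * 305372) tst Cfsg.Agent.H856.F23.LF 1 = true := by
  decide +kernel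

theorem chkN_of {n : ℕ} (h : tbl.elem (rowOf n) = true) : chkN n = true := by
  rw [← chkR_rowOf]
  exact List.all_eq_true.1 tbl_ok _ (List.mem_of_elem_eq_true h)

end Cfsg.Agent.H635.SB.Fi23
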