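import Cfsg.Agent.H635.SB.Fi23.Chk

/-!
# `Fi₂₃`: the checks for the degrees up to 305371 (helper635)
-/

set_option autoImplicit false
set_option maxRecDepth 100000

namespace Cfsg.Agent.H635.SB.Fi23

def tA0 : List (ℕ × ℕ × ℕ × ℕ × ℕ × ℕ × ℕ) :=
  [(288, 32, 112608, 992, 4, 1276, 14), (714, 14, 8694, 566, 20, 1260, 50), (748, 44, 81972, 532, 7, 1273, 18),
    (782, 2, 162, 498, 154, 1126, 363), (1242, 2, 102, 38, 244, 1036, 523), (1496, 88, 163944, 1064, 7, 1273, 16),
    (1989, 13, 2691, 571, 60, 1220, 122), (2277, 11, 1683, 283, 82, 1198, 163), (3588, 52, 23868, 252, 28, 1252,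
    54), (5796, 28, 4284, 604, 82, 1198, 153), (5865, 5, 135, 535, 460, 820, 854), (6578, 286, 393822, 1102, 10,
    1270, 19), (7072, 416, 775008, 608, 7, 1273, 14), (7360, 320, 440640, 320, 10, 1270, 19), (7820, 20, 1620, 1140,
    154, 1126, 283), (7854, 154, 95634, 1106, 20, 1260, 38), (8568, 56, 11592, 392, 60, 1220, 111), (9315, 5, 85,
    925, 730, 550, 1334), (9384, 8, 216, 856, 460, 820, 841), (10166, 26, 2106, 74, 154, 1126, 281), (10880, 640,
    1192320, 640, 7, 1273, 14), (12903, 11, 297, 1177, 460, 820, 835), (13650, 4550, 48034350, 430, 2, 1278, 4),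
    (14144, 832, 1550016, 1216, 7, 1273, 14), (15640, 40, 3240, 1000, 154, 1126, 279), (16744, 728, 1002456, 1176,
    10, 1270, 19), (17136, 112, 23184, 784, 60, 1220, 110), (17952, 352, 218592, 1248, 20, 1260, 38), (18480, 6160,
    65031120, 720, 2, 1278, 4), (18700, 1100, 2049300, 500, 7, 1273, 14), (21504, 7168, 75672576, 256, 2, 1278, 4),
    (24310, 1430, 2664090, 10, 7, 1273, 14), (25024, 64, 5184, 576, 154, 1126, 277), (25806, 22, 594, 1074, 460,
    820, 827)]

theorem tA0_ok : tA0.all chkR = true := by decide +kernel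

def tA1 : List (ℕ × ℕ × ℕ × ℕ × ℕ × ℕ × ℕ) :=
  [(72657, 39, 663, 303, 730, 550, 1303), (74358, 54, 1242, 1162, 539, 741, 963), (77350, 4550, 8476650, 730, 7,
    1273, 14), (80190, 990, 387090, 450, 32, 1248, 58), (82432, 3584, 4935168, 768, 10, 1270, 19), (86020, 220,
    17820, 1020, 154, 1126, 275), (87516, 572, 118404, 804, 60, 1220, 108), (89505, 65, 1495, 95, 539, 741, 962),
    (93312, 1152, 450432, 128, 32, 1248, 58), (93840, 80, 2160, 880, 460, 820, 821), (98175, 1925, 1195425, 385, 20,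
    1260, 37), (101660, 260, 21060, 740, 154, 1126, 275), (105248, 4576, 6301152, 992, 10, 1270, 19), (106029, 77,
    1771, 211, 539, 741, 962), (106743, 91, 2457, 777, 460, 820, 820), (111826, 286, 23166, 814, 154, 1126, 275),
    (112320, 4160, 4879680, 320, 11, 1269, 21), (112608, 32, 288, 32, 1378, 1182, 2456)]

theorem tA1_ok : tA1.all chkR = true := by decide +kernel

def tA2 : List (ℕ × ℕ × ℕ × ℕ × ℕ × ℕ × ℕ) :=
  [(242880, 3520, 1615680, 320, 28, 1252, 51), (255255, 5005, 3108105, 745, 20, 1260, 37), (261120, 5120, 3179520,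
    1280, 20, 1260, 37), (267904, 11648, 16039296, 896, 10, 1270, 19), (273240, 440, 22440, 680, 244, 1036, 435),
    (273700, 700, 56700, 220, 154, 1126, 275), (275264, 704, 57024, 1216, 154, 1126, 275), (284648, 728, 58968, 792,
    154, 1126, 275), (291720, 5720, 3552120, 120, 20, 1260, 37), (300288, 256, 6912, 512, 460, 820, 819)]

theorem tA2_ok : tA2.all chkR = true := by decide +kernel

def tA3 : List (ℕ × ℕ × ℕ × ℕ × ℕ × ℕ × ℕ) :=
  [(147798, 14, 42, 682, 4132, 988, 7359)]

theorem tA3_ok : tA3.all chkR = true := by decide +kernel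

def tA4 : List (ℕ × ℕ × ℕ × ℕ × ℕ × ℕ × ℕ) :=
  [(274482, 26, 78, 718, 4132, 988, 7353)]

theorem tA4_ok : tA4.all chkR = true := by decide +kernel

end Cfsg.Agent.H635.SB.Fi23
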