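import Cfsg.Agent.H935.Fi23.Num
import Cfsg.Agent.H653.Sieve.Check

/-!
# `Fi₂₃`: the constituents of the alternating square of the character of degree 782 (helper635)

`chkN n` : every quintuple `(n, a, b, c, d)` with `D4` and the bounds for the weights is in the list `L`.
-/

set_option autoImplicit false
set_option maxRecDepth 100000

namespace Cfsg.Agent.H635.SB.Fi23

open Cfsg.Agent.H935.Fi23 Cfsg.Agent.H856.F23

/-- the value at the product of three, from the bound for the first weight -/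
def dOf (n a b : ℤ) : ℤ :=
  -((n + 23 * a + 253 * b) / 1771) + ((-(451) * (n + 23 * a + 253 * b)) % 2048 + (n + 23 * a + 253 * b) / 1771) % 2048

/-- the bounds for the other weights -/
def wOK (n a b d : ℤ) : Bool :=
  decide (n + 23 * a + 253 * b + 1771 * d ≤ 518144) && (decide (n + 7 * a + 13 * b - 21 * d ≤ 364544) &&
    (decide (n - a - 11 * b + 11 * d ≤ 270336) && decide (n - 9 * a + 29 * b - 21 * d ≤ 364544)))

/-- the quadruples of the degrees which are even or divisible by 3 -/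
def L : List (ℤ × ℤ × ℤ × ℤ) :=
  [(782, 78, 78, 14), (3588, -572, 196, 4), (25806, -2354, 462, -50), (60996, 1924, 1156, 68),
    (73899, -3829, 2443, -341), (106743, 19383, 3255, -777), (111826, -11726, 946, -46), (111826, 20306, 3410, -814),
    (116127, 11583, 4543, -865), (158355, -2925, 659, 147), (261120, 0, 768, -256)]

/-- the loop over `b` -/
def loopJ (n a R b0 : ℤ) : Bool :=
  (List.range 19).all fun j =>
    let b := b0 + 2816 * ((a - 22784 - b0) / 2816 + (j : ℤ))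
    let c := (R - 351 * b) / 2816
    !(f3 n a b c) || (!(f4 n a b (dOf n a b)) || (!(wOK n a b (dOf n a b)) || L.elem (n, a, b, dOf n a b)))

/-- one value of `a` -/
def stepA (n a : ℤ) : Bool :=
  let R10 : ℤ := 31671 * (a * a) / n - n
  !(R10 % 10 == 0) ||
    (let R := R10 / 10
     let b0 := (2463 * R) % 2816
     !((a - b0) % 128 == 0) || (let c0 := (R - 351 * b0) / 2816
        !((n - c0) % 3 == 0 && C13 n a c0) || loopJ n a R b0))

/-- the filter, `u` is `m` modulo 1280 for `a = g * m` -/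
def flt (g gh nn u : ℕ) : Bool :=
  bif Nat.beq (Nat.mod (Nat.mod (Nat.add (Nat.mul gh (Nat.mul u u)) nn) 1280) 10) 0 then
    Nat.beq (Nat.mod (Nat.mul g u) 128)
      (Nat.mod (Nat.mul 31 (Nat.div (Nat.mod (Nat.add (Nat.mul gh (Nat.mul u u)) nn) 1280) 10)) 128) else false

def chkH (n g gh nn K M0 cnt : ℕ) : Bool :=
  (List.range cnt).all fun k => bif flt g gh nn (Nat.add k M0) then stepA n (g * ((k : ℤ) - K)) else true

def chkG (n g h' K : ℕ) : Bool :=
  chkH n g (g * h') (1280 - n % 1280) K (1280 * (K / 1280 + 1) - K) (K + (154 * n + 89056) / (506 * g) + 2)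

/-- the loop over `a` -/
def chkN (n : ℕ) : Bool :=
  chkG n (n / Nat.gcd n 31671) (31671 / Nat.gcd n 31671) (9 * n / (23 * (n / Nat.gcd n 31671)) + 1)

/-! ### the correctness -/

theorem elem_of {l : List (ℤ × ℤ × ℤ × ℤ)} {x : ℤ × ℤ × ℤ × ℤ} (h : l.elem x = true) : x ∈ l := List.mem_of_elem_eq_true h

theorem C13_add (f A T k : ℤ) : C13 f A (T + 13 * k) = C13 f A T := by
  have h : ∀ c t : ℤ, (T + 13 * k - c * t) % 13 = (T - c * t) % 13 := fun c t => by
    generalize c * t = x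
    omega
  unfold C13
  simp only [h]

theorem dOf_eq {n a b c d : ℤ} (h : D4 n a b c d) (hw0 : n + 23 * a + 253 * b + 1771 * d ≤ 518144) : dOf n a b = d := by
  obtain ⟨m0, h0⟩ := h.w0
  unfold dOf
  generalize n + 23 * a + 253 * b = s at *
  omega

/-- the weights give the range of `a` and `b` -/
theorem bounds {n a b c d : ℤ} (h : D4 n a b c d) (hw0 : n + 23 * a + 253 * b + 1771 * d ≤ 518144)
    (hw8 : n + 7 * a + 13 * b - 21 * d ≤ 364544) (hw16 : n - 9 * a + 29 * b - 21 * d ≤ 364544) :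
    -(9 * n) ≤ 23 * a ∧ 506 * a ≤ 154 * n + 89056 ∧ a - 22784 ≤ b ∧ b ≤ a + 22784 ∧ (a - b) % 128 = 0 := by
  obtain ⟨m0, h0⟩ := h.w0
  obtain ⟨m8, h8⟩ := h.w8
  obtain ⟨m12, h12⟩ := h.w12
  obtain ⟨m16, h16⟩ := h.w16
  refine ⟨?_, ?_, ?_, ?_, ?_⟩ <;> omega

theorem stepA_spec {n a b c d : ℤ} (hn : 0 < n) (h : D4 n a b c d)
    (hw0 : n + 23 * a + 253 * b + 1771 * d ≤ 518144) (hw8 : n + 7 * a + 13 * b - 21 * d ≤ 364544)
    (hw12 : n - a - 11 * b + 11 * d ≤ 270336) (hw16 : n - 9 * a + 29 * b - 21 * d ≤ 364544)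
    (hc : stepA n a = true) : (n, a, b, d) ∈ L := by
  obtain ⟨-, -, b1, b2, b3⟩ := bounds h hw0 hw8 hw16
  have hR : 31671 * (a * a) / n - n = 3510 * b + 28160 * c := by
    rw [h.rel, Int.mul_ediv_cancel_left _ hn.ne']
    ring
  have f3h := f3_of h
  have hf := f3h
  unfold f3 at hf
  simp only [Bool.and_eq_true, beq_iff_eq, decide_eq_true_eq] at hf
  obtain ⟨hf1, -, -, hf13, -⟩ := hf
  unfold stepA at hc
  simp only [hR] at hc
  have e1 : (3510 * b + 28160 * c) % 10 = 0 := by omega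
  have e2 : (3510 * b + 28160 * c) / 10 = 351 * b + 2816 * c := by omega
  rw [e1, e2] at hc
  have e3 : (2463 * (351 * b + 2816 * c)) % 2816 = b % 2816 := by omega
  rw [e3] at hc
  have e4 : (a - b % 2816) % 128 = 0 := by omega
  have e5 : (351 * b + 2816 * c - 351 * (b % 2816)) / 2816 = c + 13 * (27 * (b / 2816)) := by omega
  rw [e4, e5, C13_add, hf13] at hc
  have e6 : (n - (c + 13 * (27 * (b / 2816)))) % 3 = 0 := by omega
  rw [e6] at hc
  simp only [beq_self_eq_true, Bool.not_true, Bool.false_or, Bool.and_self] at hc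
  unfold loopJ at hc
  have h3 := mem_all hc (i := (b / 2816 - (a - 22784 - b % 2816) / 2816).toNat) (by omega)
  have e7 : (((b / 2816 - (a - 22784 - b % 2816) / 2816).toNat : ℕ) : ℤ) =
      b / 2816 - (a - 22784 - b % 2816) / 2816 := by omega
  have e8 : b % 2816 + 2816 * ((a - 22784 - b % 2816) / 2816 + (b / 2816 - (a - 22784 - b % 2816) / 2816)) = b := by
    omega
  have e9 : (351 * b + 2816 * c - 351 * b) / 2816 = c := by omega
  simp only [e7, e8, e9, f3h, dOf_eq h hw0, f4_of h, Bool.not_true, Bool.false_or] at h3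
  have hw : wOK n a b d = true := by
    unfold wOK
    simp only [Bool.and_eq_true, decide_eq_true_eq]
    exact ⟨hw0, hw8, hw12, hw16⟩
  rw [hw, Bool.not_true, Bool.false_or] at h3
  exact elem_of h3

theorem chkN_spec {n : ℕ} {a b c d : ℤ} (hn : 0 < n) (h : D4 n a b c d)
    (hw0 : (n : ℤ) + 23 * a + 253 * b + 1771 * d ≤ 518144) (hw8 : (n : ℤ) + 7 * a + 13 * b - 21 * d ≤ 364544)
    (hw12 : (n : ℤ) - a - 11 * b + 11 * d ≤ 270336) (hw16 : (n : ℤ) - 9 * a + 29 * b - 21 * d ≤ 364544)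
    (hc : chkN n = true) : ((n : ℤ), a, b, d) ∈ L := by
  obtain ⟨a1, a2, -, -, b3⟩ := bounds h hw0 hw8 hw16
  unfold chkN chkG chkH at hc
  have hh0 : 0 < Nat.gcd n 31671 := Nat.gcd_pos_of_pos_left _ hn
  obtain ⟨g, hg⟩ : ∃ g, g = n / Nat.gcd n 31671 := ⟨_, rfl⟩
  have hng : n = g * Nat.gcd n 31671 := by rw [hg, Nat.div_mul_cancel (Nat.gcd_dvd_left _ _)]
  have hg0 : 0 < g := by
    rcases Nat.eq_zero_or_pos g with h0 | h0
    · rw [h0, zero_mul] at hng
      omega
    · exact h0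
  obtain ⟨h', hh'⟩ := Nat.gcd_dvd_right n 31671
  have h2 : 31671 / Nat.gcd n 31671 = h' := Nat.div_eq_of_eq_mul_right hh0 hh'
  have hcop : Nat.Coprime g h' := by
    have h1 := Nat.coprime_div_gcd_div_gcd hh0
    rw [← hg] at h1
    rwa [h2] at h1
  have hdv : (g : ℤ) ∣ a := by
    obtain ⟨q, hq⟩ := h.dvd
    have h1 : ((Nat.gcd n 31671 : ℕ) : ℤ) * (h' * a) = (Nat.gcd n 31671 : ℕ) * (g * q) := by
      have e1 : ((Nat.gcd n 31671 * h' : ℕ) : ℤ) = 31671 := by rw [← hh']; norm_num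
      have e2 : ((g * Nat.gcd n 31671 : ℕ) : ℤ) = n := by rw [← hng]
      push_cast at e1 e2
      rw [← e1, ← e2] at hq
      linear_combination hq
    have h2 : (h' : ℤ) * a = g * q := mul_left_cancel₀ (by exact_mod_cast hh0.ne') h1
    have h3 : (g : ℤ) ∣ h' * a := ⟨q, h2⟩
    exact IsCoprime.dvd_of_dvd_mul_left (Nat.isCoprime_iff_coprime.2 hcop) h3
  obtain ⟨m, hm⟩ := hdv
  simp only [← hg, h2] at hc
  have hgz : (0 : ℤ) < g := by exact_mod_cast hg0
  have q1 : 9 * n < 23 * g * (9 * n / (23 * g) + 1) := Nat.lt_mul_div_succ _ (by positivity)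
  have q2 : 154 * n + 89056 < 506 * g * ((154 * n + 89056) / (506 * g) + 1) := Nat.lt_mul_div_succ _ (by positivity)
  generalize 9 * n / (23 * g) = K at q1 hc
  generalize (154 * n + 89056) / (506 * g) = K' at q2 hc
  have r1 : -((K : ℤ) + 1) < m := by
    have h1 : (9 * n : ℤ) < 23 * g * (K + 1) := by exact_mod_cast q1
    have h2 : (23 * g : ℤ) * (-((K : ℤ) + 1)) < 23 * g * m := by
      have h3 : (23 * g : ℤ) * m = 23 * a := by rw [hm]; ring
      rw [h3]
      linarith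
    exact lt_of_mul_lt_mul_left h2 (by positivity)
  have r2 : m < (K' : ℤ) + 1 := by
    have h1 : (154 * n + 89056 : ℤ) < 506 * g * (K' + 1) := by exact_mod_cast q2
    have h2 : (506 * g : ℤ) * m < 506 * g * (K' + 1) := by
      have h3 : (506 * g : ℤ) * m = 506 * a := by rw [hm]; ring
      rw [h3]
      linarith
    exact lt_of_mul_lt_mul_left h2 (by positivity)
  have h3 := mem_all hc (i := (m + (K + 1 : ℕ)).toNat) (by omega)
  have e1 : (((m + (K + 1 : ℕ)).toNat : ℕ) : ℤ) - ((K + 1 : ℕ) : ℤ) = m := by omega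
  rw [e1, ← hm] at h3
  have hflt : flt g (g * h') (1280 - n % 1280)
      ((m + (K + 1 : ℕ)).toNat + (1280 * ((K + 1) / 1280 + 1) - (K + 1))) = true := by
    obtain ⟨s, hs⟩ : ∃ s : ℕ, s = (K + 1) / 1280 + 1 := ⟨_, rfl⟩
    obtain ⟨u, hu⟩ : ∃ u : ℕ, u = (m + (K + 1 : ℕ)).toNat + (1280 * ((K + 1) / 1280 + 1) - (K + 1)) := ⟨_, rfl⟩
    have hum : (u : ℤ) = m + 1280 * s := by omega
    rw [← hu]
    -- the product
    have hX : ((g * h' : ℕ) : ℤ) * (m * m) = n + (3510 * b + 28160 * c) := by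
      have h4 := h.rel
      have e4 : ((Nat.gcd n 31671 * h' : ℕ) : ℤ) = 31671 := by rw [← hh']; norm_num
      have e5 : ((g * Nat.gcd n 31671 : ℕ) : ℤ) = n := by rw [← hng]
      push_cast at e4 e5
      have h5 : (n : ℤ) * (((g * h' : ℕ) : ℤ) * (m * m)) = n * (n + (3510 * b + 28160 * c)) := by
        push_cast
        have h6 : (31671 : ℤ) * (a * a) = n * (n + (3510 * b + 28160 * c)) := by rw [h4]; ring
        rw [← h6, hm]
        rw [← e4]
        conv_lhs => rw [← e5]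
        ring
      exact mul_left_cancel₀ (by exact_mod_cast hn.ne') h5
    obtain ⟨Y, hY⟩ : ∃ Y : ℕ, Y = g * h' * (u * u) := ⟨_, rfl⟩
    obtain ⟨Z, hZ⟩ : ∃ Z : ℤ, (Y : ℤ) = n + (3510 * b + 28160 * c) + 1280 * Z := by
      refine ⟨((g * h' : ℕ) : ℤ) * (2 * m * s + 1280 * s * s), ?_⟩
      rw [hY, ← hX]
      push_cast
      rw [hum]
      ring
    obtain ⟨W, hW⟩ : ∃ W : ℤ, ((g * u : ℕ) : ℤ) = a + 1280 * W := by
      refine ⟨g * s, ?_⟩
      push_cast
      rw [hum, hm]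
      ring
    have hg1 : Nat.mul (g * h') (Nat.mul u u) = Y := hY.symm
    obtain ⟨gu, hgu⟩ : ∃ gu, gu = g * u := ⟨_, rfl⟩
    have hg2 : Nat.mul g u = gu := hgu.symm
    rw [← hgu] at hW
    unfold flt
    rw [hg1, hg2]
    have q3 : (Y + (1280 - n % 1280)) % 1280 % 10 = 0 := by omega
    have q4 : gu % 128 = (31 * ((Y + (1280 - n % 1280)) % 1280 / 10)) % 128 := by omega
    have q5 : Nat.beq (Nat.mod (Nat.mod (Nat.add Y (1280 - n % 1280)) 1280) 10) 0 = true := Nat.beq_eq.mpr q3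
    have q6 : Nat.beq (Nat.mod gu 128) (Nat.mod (Nat.mul 31 (Nat.div (Nat.mod (Nat.add Y (1280 - n % 1280)) 1280) 10))
        128) = true := Nat.beq_eq.mpr q4
    rw [q5, cond_true]
    exact q6
  have hflt' : flt g (g * h') (1280 - n % 1280)
      (Nat.add (m + (K + 1 : ℕ)).toNat (1280 * ((K + 1) / 1280 + 1) - (K + 1))) = true := hflt
  rw [hflt', cond_true] at h3
  exact stepA_spec (by exact_mod_cast hn) h hw0 hw8 hw12 hw16 h3

/-! ### the degrees -/

/-- the residues modulo 23, 17, 13, 11, and `n` even or divisible by 3 -/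
def resid (n : ℕ) : Bool :=
  (Nat.beq (n % 2) 0 || Nat.beq (n % 3) 0) && ([0, 1, 22, 12, 11].elem (n % 23) && ([0, 1, 16].elem (n % 17) &&
    ([0, 1, 12, 2, 11, 6, 7].elem (n % 13) && [0, 1, 10, 2, 9].elem (n % 11))))


/-- a row of the table -/
def chkR : ℕ × ℕ × ℕ × ℕ × ℕ × ℕ × ℕ → Bool
  | (n, g, gh, nn, K, M0, cnt) => chkH n g gh nn K M0 cnt

def rowOf (n : ℕ) : ℕ × ℕ × ℕ × ℕ × ℕ × ℕ × ℕ :=
  let g := n / Nat.gcd n 31671
  let K := 9 * n / (23 * g) + 1
  (n, g, g * (31671 / Nat.gcd n 31671), 1280 - n % 1280, K, 1280 * (K / 1280 + 1) - K,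
    K + (154 * n + 89056) / (506 * g) + 2)

theorem chkR_rowOf (n : ℕ) : chkR (rowOf n) = chkN n := rfl

end Cfsg.Agent.H635.SB.Fi23
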