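import Cfsg.Agent.H635.SB.Fi23.Vals
import Cfsg.Agent.H635.SB.Fi23.Cert
import Cfsg.Agent.PermChar.SymAlt
import Cfsg.Agent.H678.PV.CoSym
import Cfsg.Agent.H672.SporIM.RankRows

/-!
# `Fi₂₃` has a nontrivial irreducible character of degree prime to 6 (helper635)

The alternating square of the character of degree 782 has the values `305371, 2651, 2651, -293` at the products of
0, 1, 2, 3 commuting transpositions. By the conditions `D4` its constituents of degrees even or divisible by 3 are in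
a list of eleven, and no sum of them is the alternating square (in fact it is `25806 + 279565`).
-/

set_option autoImplicit false
set_option maxRecDepth 100000

namespace Cfsg.Agent.H635.SB.Fi23

open Cfsg Subgroup Cfsg.Agent.KFacts.FiTTh.BasDef
open Cfsg.Agent.KFacts.FiTTh.BasFi (e)
open Cfsg.Agent.KFacts.FiTTh.BasInv (base finite)
open Cfsg.Agent.Characters.Core
open Cfsg.Spor (Fi23)
open Cfsg.Agent.H935.Fi23

/-! ### the search -/

/-- the multiplicities of the four orbits of characters of the `2^11` -/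
abbrev V : Type := ℕ × ℕ × ℕ × ℕ

/-- no sum of multiples of the members of the list, up to the first entry -/
def srch : List V → V → Bool
  | [], t => !(Nat.beq t.2.1 0 && (Nat.beq t.2.2.1 0 && Nat.beq t.2.2.2 0))
  | r :: rs, t => (List.range (t.2.2.2 / r.2.2.2 + 1)).all fun k =>
      !(Nat.ble (k * r.1) t.1 && (Nat.ble (k * r.2.1) t.2.1 && Nat.ble (k * r.2.2.1) t.2.2.1)) ||
        srch rs (t.1 - k * r.1, t.2.1 - k * r.2.1, t.2.2.1 - k * r.2.2.1, t.2.2.2 - k * r.2.2.2)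

theorem srch_spec : ∀ (rs : List V), (∀ r ∈ rs, 0 < r.2.2.2) → ∀ (t : V), srch rs t = true → ∀ (k : V → ℕ) (s : ℕ),
    (rs.map fun r => k r • r).sum + ((s, 0, 0, 0) : V) = t → False
  | [], _, t, h, k, s, he => by
    simp only [List.map_nil, List.sum_nil, zero_add] at he
    subst he
    have h1 : srch [] ((s, 0, 0, 0) : V) = false := rfl
    rw [h1] at h
    exact Bool.noConfusion h
  | r :: rs, hr, t, h, k, s, he => by
    have hr0 : 0 < r.2.2.2 := hr r List.mem_cons_self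
    rw [List.map_cons, List.sum_cons] at he
    obtain ⟨u, hu⟩ : ∃ u : V, u = (rs.map fun r => k r • r).sum := ⟨_, rfl⟩
    rw [← hu] at he
    obtain ⟨r1, r2, r3, r4⟩ := r
    obtain ⟨u1, u2, u3, u4⟩ := u
    obtain ⟨t1, t2, t3, t4⟩ := t
    simp only [Prod.smul_mk, smul_eq_mul, Prod.mk_add_mk, Prod.mk.injEq, add_zero] at he
    obtain ⟨e1, e2, e3, e4⟩ := he
    obtain ⟨q, hq⟩ : ∃ q, q = k (r1, r2, r3, r4) := ⟨_, rfl⟩
    rw [← hq] at e1 e2 e3 e4
    have hr4 : 0 < r4 := hr0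
    have hq1 : q < t4 / r4 + 1 := by
      rw [Nat.lt_succ_iff]
      refine (Nat.le_div_iff_mul_le hr4).2 ?_
      omega
    have h1 := mem_all (p := fun k => !(Nat.ble (k * r1) t1 && (Nat.ble (k * r2) t2 && Nat.ble (k * r3) t3)) ||
        srch rs (t1 - k * r1, t2 - k * r2, t3 - k * r3, t4 - k * r4)) h hq1
    have b1 : Nat.ble (q * r1) t1 = true := Nat.ble_eq_true_of_le (by omega)
    have b2 : Nat.ble (q * r2) t2 = true := Nat.ble_eq_true_of_le (by omega)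
    have b3 : Nat.ble (q * r3) t3 = true := Nat.ble_eq_true_of_le (by omega)
    simp only [b1, b2, b3, Bool.and_self, Bool.not_true, Bool.false_or] at h1
    refine srch_spec rs (fun r' h' => hr r' (List.mem_cons_of_mem _ h')) _ h1 k s ?_
    rw [← hu]
    simp only [Prod.mk_add_mk, Prod.mk.injEq, add_zero]
    omega

/-- the weights of the list `L` -/
def LW : List V :=
  [(23, 1, 0, 1), (23, 1, 1, 7), (0, 8, 11, 30), (253, 43, 23, 37), (0, 42, 23, 91), (0, 147, 21, 21),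
    (0, 21, 55, 120), (0, 154, 22, 22), (0, 134, 22, 79), (253, 70, 76, 98), (1, 135, 122, 141)]

/-- the weights of a quadruple -/
def wt (x : ℤ × ℤ × ℤ × ℤ) : V :=
  (((x.1 + 23 * x.2.1 + 253 * x.2.2.1 + 1771 * x.2.2.2) / 2048).toNat,
    ((x.1 + 7 * x.2.1 + 13 * x.2.2.1 - 21 * x.2.2.2) / 2048).toNat,
    ((x.1 - x.2.1 - 11 * x.2.2.1 + 11 * x.2.2.2) / 2048).toNat,
    ((x.1 - 9 * x.2.1 + 29 * x.2.2.1 - 21 * x.2.2.2) / 2048).toNat)

theorem map_wt : L.map wt = LW := by decide +kernel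

theorem srch_true : srch LW.reverse (253, 178, 132, 178) = true := by decide +kernel

theorem sum_fiber {ι : Type*} [Fintype ι] (m : ι → ℕ) (f : ι → V) (rs : List V) (hnd : rs.Nodup)
    (S : Finset ι) (hf : ∀ i ∈ S, f i ∈ rs) :
    ∃ k : V → ℕ, ∑ i ∈ S, m i • f i = (rs.map fun r => k r • r).sum := by
  classical
  refine ⟨fun r => ∑ i ∈ S with f i = r, m i, ?_⟩
  rw [← List.sum_toFinset _ hnd, ← Finset.sum_fiberwise_of_maps_to (s := S) (t := rs.toFinset) (g := f)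
    (fun i hi => List.mem_toFinset.2 (hf i hi))]
  refine Finset.sum_congr rfl fun r _ => ?_
  rw [Finset.sum_smul]
  exact Finset.sum_congr rfl fun i hi => by rw [(Finset.mem_filter.1 hi).2]

/-! ### degree 782 -/

def chk782 : Bool :=
  (List.range 783).all fun k =>
    let a : ℤ := 2 * ((k : ℤ) - 391)
    let R : ℤ := (31671 * (a * a) / 782 - 782) / 10
    (a == 782) || ((a == 78) || (!((a - (2463 * R) % 2816) % 128 == 0) || loopB 782 a R 1 1))

theorem chk782_true : chk782 = true := by decide +kernel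

theorem arith782 {b c : ℤ} (h : (31671 : ℤ) * (78 * 78) = 782 * (782 + 3510 * b + 28160 * c)) (h1 : -782 ≤ b)
    (h2 : b ≤ 782) : b = 78 := by omega

theorem arith782' {m d : ℤ} (h : 2048 * m = 782 + 23 * 78 + 253 * 78 + 1771 * d) (h1 : -782 ≤ d) (h2 : d ≤ 782) :
    d = 14 := by omega

theorem vals782 {a b c d : ℤ} (h : D4 782 a b c d) : a = 78 ∧ b = 78 ∧ d = 14 := by
  obtain ⟨k, hk⟩ : (2 : ℤ) ∣ a := by
    obtain ⟨q, hq⟩ := h.dvd
    omega
  have ha := abs_le.1 h.ha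
  have hb := abs_le.1 h.hb
  have hd := abs_le.1 h.hd
  have e3 : 31671 * (a * a) / (782 : ℤ) = 782 + 3510 * b + 28160 * c := by
    rw [h.rel]
    exact Int.mul_ediv_cancel_left _ (by norm_num)
  have hc := chk782_true
  unfold chk782 at hc
  have h3 := mem_all hc (i := (k + 391).toNat) (by omega)
  have e2 : 2 * ((((k + 391).toNat : ℕ) : ℤ) - 391) = a := by omega
  simp only [e2] at h3
  rw [e3] at h3
  have e4 : ((782 : ℤ) + 3510 * b + 28160 * c - 782) / 10 = 351 * b + 2816 * c := by omega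
  rw [e4] at h3
  obtain ⟨m0, h0⟩ := h.w0
  obtain ⟨m8, h8⟩ := h.w8
  obtain ⟨m12, h12⟩ := h.w12
  obtain ⟨m16, h16⟩ := h.w16
  have ha78 : a = 78 := by
    simp only [Bool.or_eq_true, beq_iff_eq, Bool.not_eq_true', beq_eq_false_iff_ne] at h3
    rcases h3 with h3 | h3 | h3 | h3
    · exact absurd h3 h.ane
    · exact h3
    · exfalso
      apply h3
      have h5 : (2463 * (351 * b + 2816 * c)) % 2816 = b % 2816 := by omega
      rw [h5]
      omega
    · exact (loopB_false (J := 1) (L := 1) h rfl (by norm_num) (by norm_num) h3).elim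
  have hrel := h.rel
  rw [ha78] at hrel
  have hb78 := arith782 hrel hb.1 hb.2
  refine ⟨ha78, hb78, ?_⟩
  rw [ha78, hb78] at h0
  exact arith782' h0 hd.1 hd.2

/-! ### the residues -/

theorem mod23 (χ : IrrCharacter Fi23) : [0, 1, 22, 12, 11].elem (charDegree (χ : Fi23 → ℂ) % 23) = true := by
  have := S1697.result.1
  have := finite
  have := finite_irr (G := Fi23)
  have := Fintype.ofFinite (IrrCharacter Fi23)
  have : Fact (Nat.Prime 23) := ⟨by norm_num⟩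
  have hy : orderOf (LThreeFi23.elw LThreeFi23.y23) = 23 := orderOf_eq_prime LThreeFi23.pow23 LThreeFi23.y23_ne
  have hc : Nat.card (centralizer ({LThreeFi23.elw LThreeFi23.y23} : Set Fi23)) = 23 * 1 := by
    rw [H870.IMLocal.centralizer_zpowers, H839.Fi23.self_cent23, H839.Fi23.card_y23]
  obtain ⟨P, W, -, -, -, hok⟩ := H653.Sieve.exists_col Cfsg.Agent.H856.F23.not_comm23 Cfsg.Agent.LThreeFi23.card_G hy hc
    11 2 [(0, 0), (1, 2), (22, -2), (12, 1), (11, -1)] 2 true (by decide +kernel)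
  have h1 := hok.mem χ
  simp only [List.mem_cons, Prod.mk.injEq, List.not_mem_nil, or_false] at h1
  have h2 : charDegree (χ : Fi23 → ℂ) % 23 = 0 ∨ charDegree (χ : Fi23 → ℂ) % 23 = 1 ∨
      charDegree (χ : Fi23 → ℂ) % 23 = 22 ∨ charDegree (χ : Fi23 → ℂ) % 23 = 12 ∨
      charDegree (χ : Fi23 → ℂ) % 23 = 11 := by
    have h3 : H653.Sieve.deg χ = charDegree (χ : Fi23 → ℂ) := rfl
    rw [h3] at h1
    tauto
  rcases h2 with h | h | h | h | h <;> rw [h] <;> decide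

theorem mem_L (χ : IrrCharacter Fi23) (hbad : 2 ∣ charDegree (χ : Fi23 → ℂ) ∨ 3 ∣ charDegree (χ : Fi23 → ℂ))
    (hle : charDegree (χ : Fi23 → ℂ) ≤ 305371) {a b c d : ℤ} (h : D4 (charDegree (χ : Fi23 → ℂ)) a b c d)
    (hw0 : (charDegree (χ : Fi23 → ℂ) : ℤ) + 23 * a + 253 * b + 1771 * d ≤ 518144)
    (hw8 : (charDegree (χ : Fi23 → ℂ) : ℤ) + 7 * a + 13 * b - 21 * d ≤ 364544)
    (hw12 : (charDegree (χ : Fi23 → ℂ) : ℤ) - a - 11 * b + 11 * d ≤ 270336)
    (hw16 : (charDegree (χ : Fi23 → ℂ) : ℤ) - 9 * a + 29 * b - 21 * d ≤ 364544) :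
    ((charDegree (χ : Fi23 → ℂ) : ℤ), a, b, d) ∈ L := by
  have := finite
  have hrs := rs_of χ
  have h23 := mod23 χ
  have hpos := Blocks.Basic.charDegree_pos χ.2
  have hdvd : charDegree (χ : Fi23 → ℂ) ∣ H653.Sieve.facProd H856.F23.LF := by
    have h1 := Blocks.Knorr.charDegree_dvd χ.2
    rw [LThreeFi23.card_G] at h1
    have h2 : H653.Sieve.facProd H856.F23.LF = 4089470473293004800 := by decide +kernel
    rw [h2]
    exact h1
  generalize charDegree (χ : Fi23 → ℂ) = n at *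
  have h1 := H653.Sieve.allDiv_spec (by
    intro pa hpa
    simp only [H856.F23.LF, List.mem_cons, List.not_mem_nil, or_false] at hpa
    rcases hpa with rfl | rfl | rfl | rfl | rfl | rfl | rfl | rfl <;> norm_num) chkAll n hdvd (by
      rw [one_mul]
      exact Nat.mul_lt_mul'' (by omega) (by omega))
  rw [one_mul] at h1
  have hr : resid n = true := by
    unfold resid
    unfold rs at hrs
    simp only [Bool.and_eq_true] at hrs ⊢
    refine ⟨?_, h23, hrs⟩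
    rw [Bool.or_eq_true]
    rcases hbad with h2 | h2
    · left
      rw [Nat.mod_eq_zero_of_dvd h2]
      rfl
    · right
      rw [Nat.mod_eq_zero_of_dvd h2]
      rfl
  unfold tst at h1
  have hn1 : Nat.beq n 1 = false := by
    rw [Bool.eq_false_iff]
    intro h2
    have h3 : n = 1 := Nat.eq_of_beq_eq_true h2
    rw [h3] at hbad
    omega
  have hn2 : Nat.ble 305372 n = false := by
    rw [Bool.eq_false_iff]
    intro h2
    have h3 := Nat.le_of_ble_eq_true h2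
    omega
  rw [hn1, hn2, Bool.or_false, cond_false, hr, cond_true] at h1
  exact chkN_spec hpos h hw0 hw8 hw12 hw16 (chkN_of h1)

/-- the weights -/
theorem exists_w (χ : IrrCharacter Fi23) : ∃ (a b d : ℤ) (w : V), (χ : Fi23 → ℂ) (e (some 0)) = a ∧
    (χ : Fi23 → ℂ) (e (some 0) * e (some 1)) = b ∧ (χ : Fi23 → ℂ) (pr e {some 0, some 1, some 2}) = d ∧
    (2048 * w.1 : ℤ) = (charDegree (χ : Fi23 → ℂ) : ℤ) + 23 * a + 253 * b + 1771 * d ∧
    (2048 * w.2.1 : ℤ) = (charDegree (χ : Fi23 → ℂ) : ℤ) + 7 * a + 13 * b - 21 * d ∧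
    (2048 * w.2.2.1 : ℤ) = (charDegree (χ : Fi23 → ℂ) : ℤ) - a - 11 * b + 11 * d ∧
    (2048 * w.2.2.2 : ℤ) = (charDegree (χ : Fi23 → ℂ) : ℤ) - 9 * a + 29 * b - 21 * d ∧
    ((χ : Fi23 → ℂ) = 1 ∧ w = (1, 0, 0, 0) ∨ (χ : Fi23 → ℂ) ≠ 1 ∧
      ((2 ∣ charDegree (χ : Fi23 → ℂ) ∨ 3 ∣ charDegree (χ : Fi23 → ℂ)) → charDegree (χ : Fi23 → ℂ) ≤ 305371 →
        w.1 ≤ 253 → w.2.1 ≤ 178 → w.2.2.1 ≤ 132 → w.2.2.2 ≤ 178 → w ∈ LW)) := by
  have := finite
  by_cases hχ : (χ : Fi23 → ℂ) = 1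
  · have h1 : charDegree (χ : Fi23 → ℂ) = 1 := Blocks.Basic.charDegree_of_eq (by rw [hχ]; simp)
    refine ⟨1, 1, 1, (1, 0, 0, 0), ?_, ?_, ?_, ?_, ?_, ?_, ?_, Or.inl ⟨hχ, rfl⟩⟩
    · rw [hχ]; simp
    · rw [hχ]; simp
    · rw [hχ]; simp
    all_goals rw [h1]; norm_num
  · obtain ⟨a, b, c, d, h, ha, hb, hd⟩ := exists_vals4 χ hχ
    obtain ⟨m0, h0⟩ := h.w0
    obtain ⟨m8, h8⟩ := h.w8
    obtain ⟨m12, h12⟩ := h.w12
    obtain ⟨m16, h16⟩ := h.w16
    refine ⟨a, b, d, (m0, m8, m12, m16), ha, hb, hd, h0, h8, h12, h16, Or.inr ⟨hχ, ?_⟩⟩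
    intro hbad hle k0 k8 k12 k16
    dsimp only at k0 k8 k12 k16
    have hL := mem_L χ hbad hle h (by omega) (by omega) (by omega) (by omega)
    have h1 := List.mem_map_of_mem (f := wt) hL
    rw [map_wt] at h1
    have h2 : wt ((charDegree (χ : Fi23 → ℂ) : ℤ), a, b, d) = (m0, m8, m12, m16) := by
      unfold wt
      dsimp only
      rw [← h0, ← h8, ← h12, ← h16]
      simp only [Prod.mk.injEq]
      refine ⟨?_, ?_, ?_, ?_⟩ <;> omega
    rwa [h2] at h1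

/-! ### the alternating square -/

/-- **`Fi₂₃` has a nontrivial irreducible character of degree prime to 6.** -/
theorem exists_prime_six : ∃ χ : IrrCharacter Fi23, ¬ 2 ∣ charDegree (χ : Fi23 → ℂ) ∧ ¬ 3 ∣ charDegree (χ : Fi23 → ℂ) ∧
    (χ : Fi23 → ℂ) ≠ 1 := by
  classical
  have := finite
  have := finite_irr (G := Fi23)
  have := Fintype.ofFinite (IrrCharacter Fi23)
  have := Fintype.ofFinite Fi23
  by_contra hno
  push Not at hno
  obtain ⟨χ, hχd⟩ := (H672.SporIM.fi23 (K := Fi23) ⟨MulEquiv.refl _⟩).2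
  have hχ1 : (χ : Fi23 → ℂ) ≠ 1 := by
    intro h
    have h1 : charDegree (χ : Fi23 → ℂ) = 1 := Blocks.Basic.charDegree_of_eq (by rw [h]; simp)
    omega
  have hχ1' : (χ : Fi23 → ℂ) 1 = 782 := by rw [Blocks.Basic.irr_one_eq_charDegree χ.2, hχd]; norm_num
  obtain ⟨a, b, c, d, h, ha, hb, hd⟩ := exists_vals4 χ hχ1
  rw [hχd] at h
  obtain ⟨rfl, rfl, rfl⟩ := vals782 (by exact_mod_cast h)
  have hσ := PermChar.SymAlt.isCharacter_altSq (isIrr_isCharacter χ.2)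
  obtain ⟨m, hm, -, hmd⟩ := H678.PV.CoSym.exists_mult hσ
  have hsq : ∀ T : Finset GolayPt, pr e T * pr e T = 1 := fun T => base.pr_sq T
  have e1 : e (some 0) * e (some 0) = 1 := Cfsg.Agent.KFacts.FiTTh.BasFi.e_sq _
  have n01 : (some 0 : GolayPt) ≠ some 1 := by decide
  have e2 : (e (some 0) * e (some 1)) * (e (some 0) * e (some 1)) = 1 := by
    rw [← base.pr_pair n01]
    exact hsq _
  have s0 : ∑ ψ : IrrCharacter Fi23, (m ψ : ℤ) * (charDegree (ψ : Fi23 → ℂ) : ℤ) = 305371 := by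
    have h1 := hmd
    rw [hχ1', mul_one, hχ1'] at h1
    have h2 : ((∑ ψ : IrrCharacter Fi23, m ψ * charDegree (ψ : Fi23 → ℂ) : ℕ) : ℂ) = ((305371 : ℕ) : ℂ) := by
      rw [← h1]; norm_num
    have h3 : (∑ ψ : IrrCharacter Fi23, m ψ * charDegree (ψ : Fi23 → ℂ) : ℕ) = 305371 := by exact_mod_cast h2
    exact_mod_cast h3
  have v1 : ((χ : Fi23 → ℂ) (e (some 0)) ^ 2 - (χ : Fi23 → ℂ) (e (some 0) * e (some 0))) / 2 = ((2651 : ℤ) : ℂ) := by
    rw [e1, hχ1', ha]; norm_num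
  have v2 : ((χ : Fi23 → ℂ) (e (some 0) * e (some 1)) ^ 2 -
      (χ : Fi23 → ℂ) ((e (some 0) * e (some 1)) * (e (some 0) * e (some 1)))) / 2 = ((2651 : ℤ) : ℂ) := by
    rw [e2, hχ1', hb]; norm_num
  have v3 : ((χ : Fi23 → ℂ) (pr e {some 0, some 1, some 2}) ^ 2 -
      (χ : Fi23 → ℂ) (pr e {some 0, some 1, some 2} * pr e {some 0, some 1, some 2})) / 2 = ((-293 : ℤ) : ℂ) := by
    rw [hsq, hχ1', hd]; norm_num
  choose A B D w hA hB hD w0 w8 w12 w16 hcase using exists_w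
  have s1 : ∑ ψ : IrrCharacter Fi23, (m ψ : ℤ) * A ψ = 2651 := by
    have h1 := hm (e (some 0))
    rw [v1, Finset.sum_congr rfl fun ψ _ => by rw [hA ψ]] at h1
    have h2 : ((∑ ψ : IrrCharacter Fi23, (m ψ : ℤ) * A ψ : ℤ) : ℂ) = ((2651 : ℤ) : ℂ) := by
      rw [h1]
      push_cast
      rfl
    exact_mod_cast h2
  have s2 : ∑ ψ : IrrCharacter Fi23, (m ψ : ℤ) * B ψ = 2651 := by
    have h1 := hm (e (some 0) * e (some 1))
    rw [v2, Finset.sum_congr rfl fun ψ _ => by rw [hB ψ]] at h1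
    have h2 : ((∑ ψ : IrrCharacter Fi23, (m ψ : ℤ) * B ψ : ℤ) : ℂ) = ((2651 : ℤ) : ℂ) := by
      rw [h1]
      push_cast
      rfl
    exact_mod_cast h2
  have s3 : ∑ ψ : IrrCharacter Fi23, (m ψ : ℤ) * D ψ = -293 := by
    have h1 := hm (pr e {some 0, some 1, some 2})
    rw [v3, Finset.sum_congr rfl fun ψ _ => by rw [hD ψ]] at h1
    have h2 : ((∑ ψ : IrrCharacter Fi23, (m ψ : ℤ) * D ψ : ℤ) : ℂ) = ((-293 : ℤ) : ℂ) := by
      rw [h1]
      push_cast
      rfl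
    exact_mod_cast h2
  -- the weights
  have lin : ∀ (x y z t : ℤ) (f : IrrCharacter Fi23 → ℕ), (∀ ψ, (2048 * f ψ : ℤ) =
      x * (charDegree (ψ : Fi23 → ℂ) : ℤ) + y * A ψ + z * B ψ + t * D ψ) →
      2048 * ∑ ψ, (m ψ : ℤ) * f ψ = x * 305371 + y * 2651 + z * 2651 + t * (-293) := by
    intro x y z t f hf
    rw [← s0]
    conv_rhs => rw [← s1]
    rw [Finset.mul_sum]
    have h1 : ∀ ψ, 2048 * ((m ψ : ℤ) * f ψ) = x * ((m ψ : ℤ) * (charDegree (ψ : Fi23 → ℂ) : ℤ)) +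
        y * ((m ψ : ℤ) * A ψ) + z * ((m ψ : ℤ) * B ψ) + t * ((m ψ : ℤ) * D ψ) := by
      intro ψ
      linear_combination (m ψ : ℤ) * hf ψ
    rw [Finset.sum_congr rfl fun ψ _ => h1 ψ, Finset.sum_add_distrib, Finset.sum_add_distrib, Finset.sum_add_distrib,
      ← Finset.mul_sum, ← Finset.mul_sum, ← Finset.mul_sum, ← Finset.mul_sum, s2, s3]
    rw [s1]
  have t0 : ∑ ψ, m ψ * (w ψ).1 = 253 := by
    have h1 := lin 1 23 253 1771 (fun ψ => (w ψ).1) fun ψ => by rw [w0 ψ]; ring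
    have h2 : ∑ ψ, (m ψ : ℤ) * ((w ψ).1 : ℤ) = 253 := by linarith
    exact_mod_cast h2
  have t8 : ∑ ψ, m ψ * (w ψ).2.1 = 178 := by
    have h1 := lin 1 7 13 (-21) (fun ψ => (w ψ).2.1) fun ψ => by rw [w8 ψ]; ring
    have h2 : ∑ ψ, (m ψ : ℤ) * ((w ψ).2.1 : ℤ) = 178 := by linarith
    exact_mod_cast h2
  have t12 : ∑ ψ, m ψ * (w ψ).2.2.1 = 132 := by
    have h1 := lin 1 (-1) (-11) 11 (fun ψ => (w ψ).2.2.1) fun ψ => by rw [w12 ψ]; ring
    have h2 : ∑ ψ, (m ψ : ℤ) * ((w ψ).2.2.1 : ℤ) = 132 := by linarith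
    exact_mod_cast h2
  have t16 : ∑ ψ, m ψ * (w ψ).2.2.2 = 178 := by
    have h1 := lin 1 (-9) 29 (-21) (fun ψ => (w ψ).2.2.2) fun ψ => by rw [w16 ψ]; ring
    have h2 : ∑ ψ, (m ψ : ℤ) * ((w ψ).2.2.2 : ℤ) = 178 := by linarith
    exact_mod_cast h2
  have hdeg : ∑ ψ : IrrCharacter Fi23, m ψ * charDegree (ψ : Fi23 → ℂ) = 305371 := by exact_mod_cast s0
  have hle : ∀ (f : IrrCharacter Fi23 → ℕ) (T : ℕ), ∑ ψ, m ψ * f ψ = T → ∀ ψ, m ψ ≠ 0 → f ψ ≤ T := by
    intro f T hT ψ hψ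
    have h1 := Finset.single_le_sum (f := fun ψ => m ψ * f ψ) (fun _ _ => Nat.zero_le _) (Finset.mem_univ ψ)
    rw [hT] at h1
    exact (Nat.le_mul_of_pos_left _ (Nat.pos_of_ne_zero hψ)).trans h1
  -- the fibers
  obtain ⟨S, hS⟩ : ∃ S : Finset (IrrCharacter Fi23), S = Finset.univ.filter fun ψ => m ψ ≠ 0 ∧ (ψ : Fi23 → ℂ) ≠ 1 :=
    ⟨_, rfl⟩
  have hmem : ∀ ψ ∈ S, w ψ ∈ LW.reverse := by
    intro ψ hψ
    rw [hS, Finset.mem_filter] at hψ
    obtain ⟨-, h0, h1⟩ := hψ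
    rw [List.mem_reverse]
    rcases hcase ψ with ⟨h2, -⟩ | ⟨-, h2⟩
    · exact absurd h2 h1
    · refine h2 ?_ (hle _ _ hdeg ψ h0) (hle _ _ t0 ψ h0) (hle _ _ t8 ψ h0) (hle _ _ t12 ψ h0) (hle _ _ t16 ψ h0)
      by_contra h3
      push Not at h3
      exact h1 (hno ψ h3.1 h3.2)
  obtain ⟨k, hk⟩ := sum_fiber m w LW.reverse (by decide) S hmem
  -- the trivial character
  let one : IrrCharacter Fi23 := ⟨1, isIrr_one⟩
  have hone : w one = (1, 0, 0, 0) := by
    rcases hcase one with ⟨-, h2⟩ | ⟨h2, -⟩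
    · exact h2
    · exact absurd rfl h2
  have hsum : ∑ ψ, m ψ • w ψ = (∑ ψ ∈ S, m ψ • w ψ) + ((m one, 0, 0, 0) : V) := by
    rw [← Finset.sum_filter_add_sum_filter_not Finset.univ (fun ψ : IrrCharacter Fi23 => m ψ ≠ 0 ∧ (ψ : Fi23 → ℂ) ≠ 1),
      ← hS]
    congr 1
    rw [Finset.sum_eq_single one]
    · rw [hone]
      simp
    · intro ψ hψ h1
      rw [Finset.mem_filter] at hψ
      have h2 := hψ.2
      by_cases h3 : m ψ = 0
      · rw [h3, zero_smul]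
      · exfalso
        apply h2
        refine ⟨h3, fun h4 => h1 (Subtype.ext h4)⟩
    · intro h1
      exfalso
      apply h1
      rw [Finset.mem_filter]
      exact ⟨Finset.mem_univ _, fun h2 => h2.2 rfl⟩
  have htot : ∑ ψ, m ψ • w ψ = ((253, 178, 132, 178) : V) := by
    refine Prod.ext ?_ (Prod.ext ?_ (Prod.ext ?_ ?_))
    · rw [Prod.fst_sum]
      simpa using t0
    · rw [Prod.snd_sum, Prod.fst_sum]
      simpa using t8
    · rw [Prod.snd_sum, Prod.snd_sum, Prod.fst_sum]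
      simpa using t12
    · rw [Prod.snd_sum, Prod.snd_sum, Prod.snd_sum]
      simpa using t16
  refine srch_spec LW.reverse (by decide) _ srch_true k (m one) ?_
  rw [← hk, ← hsum, htot]

end Cfsg.Agent.H635.SB.Fi23
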